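import Cfsg.Prelude.Def_LieExceptional
import Cfsg.Prelude.Def_Solvable
import Cfsg.Agent.SolvStruct.Hall
import Cfsg.Agent.SolvStruct.Nilpotent
import Cfsg.Agent.Char.Nilpotent
import Cfsg.Agent.Coprime.Generation

/-!
CN-groups (every nontrivial centraliser nilpotent): elementary facts and maximal nilpotent
subgroups.
-/

set_option autoImplicit false

namespace Cfsg.Agent.OddPre.CN

open Subgroup

variable {G : Type*} [Group G] [Finite G]

omit [Finite G] in
/-- Commuting is membership in the centraliser of a singleton. -/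
theorem mem_cent_iff {a b : G} : a ∈ centralizer ({b} : Set G) ↔ a * b = b * a := by
  rw [mem_centralizer_iff]
  simp [eq_comm]

omit [Finite G] in
theorem cent_le_pow (x : G) (n : ℕ) :
    centralizer ({x} : Set G) ≤ centralizer ({x ^ n} : Set G) := fun c hc =>
  mem_cent_iff.2 ((show Commute c x from mem_cent_iff.1 hc).pow_right n).eq

/-- A nontrivial element has a power of prime order. -/
theorem exists_prime_order_pow {x : G} (hx : x ≠ 1) :
    ∃ n : ℕ, (orderOf (x ^ n)).Prime ∧ orderOf (x ^ n) ∣ orderOf x := by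
  obtain ⟨r, hr, hd⟩ := Nat.exists_prime_and_dvd (fun e => hx (orderOf_eq_one_iff.mp e))
  refine ⟨orderOf x / r, ?_⟩
  have : orderOf (x ^ (orderOf x / r)) = r := orderOf_pow_orderOf_div (orderOf_pos x).ne' hd
  rw [this]
  exact ⟨hr, hd⟩

/-- A subgroup contains another one as soon as it contains its elements of prime power order. -/
theorem le_of_forall_prime_pow {K H : Subgroup G}
    (h : ∀ q : ℕ, q.Prime → ∀ c ∈ K, (∃ k : ℕ, orderOf c = q ^ k) → c ∈ H) : K ≤ H := by
  rw [← subgroupOf_eq_top, ← index_eq_one]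
  by_contra hne
  obtain ⟨q, hq, hd⟩ := Nat.exists_prime_and_dvd hne
  have : Fact q.Prime := ⟨hq⟩
  obtain ⟨P⟩ : Nonempty (Sylow q K) := inferInstance
  refine P.not_dvd_index (hd.trans (index_dvd_of_le fun c hc => ?_))
  obtain ⟨k, hk⟩ := IsPGroup.iff_orderOf.1 P.2 ⟨c, hc⟩
  exact mem_subgroupOf.2 (h q hq c c.2 ⟨k, by rw [← hk, Subgroup.orderOf_mk, Subgroup.orderOf_coe]⟩)

/-- In a nilpotent subgroup elements of coprime orders commute. -/
theorem commute_of_coprime {K : Subgroup G} (hK : Group.IsNilpotent K) {a b : G} (ha : a ∈ K)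
    (hb : b ∈ K) (h : (orderOf a).Coprime (orderOf b)) : a * b = b * a := by
  have := Char.nilpotent_commute_of_coprime (a := (⟨a, ha⟩ : K)) (b := ⟨b, hb⟩)
    (by rwa [Subgroup.orderOf_mk, Subgroup.orderOf_mk])
  exact congrArg Subtype.val this.eq

omit [Finite G] in
/-- Distinct primes give coprime prime powers. -/
theorem coprime_of_prime_pow {p q : ℕ} (hp : p.Prime) (hq : q.Prime) (h : p ≠ q) {a b : G}
    (ha : ∃ k : ℕ, orderOf a = p ^ k) (hb : ∃ k : ℕ, orderOf b = q ^ k) :
    (orderOf a).Coprime (orderOf b) := by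
  obtain ⟨i, hi⟩ := ha
  obtain ⟨j, hj⟩ := hb
  rw [hi, hj]
  exact ((Nat.coprime_primes hp hq).2 h).pow i j

/-- A nilpotent subgroup has a central element of each prime order dividing its order. -/
theorem exists_central {H : Subgroup G} (hH : Group.IsNilpotent H) {p : ℕ} (hp : p.Prime)
    (hd : p ∣ Nat.card H) :
    ∃ z ∈ H, orderOf z = p ∧ H ≤ centralizer ({z} : Set G) := by
  have : Fact p.Prime := ⟨hp⟩
  obtain ⟨P⟩ : Nonempty (Sylow p H) := inferInstance
  have hPn : (P : Subgroup H).Normal := inferInstance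
  have hne : (P : Subgroup H) ⊓ center H ≠ ⊥ :=
    SolvStruct.nilpotent_inf_center_ne_bot _ (P.ne_bot_of_dvd_card hd)
  have hd' : p ∣ Nat.card ↥((P : Subgroup H) ⊓ center H) := by
    rcases (P.2.to_le (inf_le_left : (P : Subgroup H) ⊓ center H ≤ P)).card_eq_or_dvd with e | e
    · exact absurd (Subgroup.card_eq_one.mp e) hne
    · exact e
  obtain ⟨z, hz⟩ := exists_prime_orderOf_dvd_card' p hd'
  refine ⟨((z : H) : G), (z : H).2, by rw [Subgroup.orderOf_coe, Subgroup.orderOf_coe, hz],
    fun h hh => mem_cent_iff.2 ?_⟩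
  exact congrArg Subtype.val (mem_center_iff.mp (mem_inf.1 z.2).2 ⟨h, hh⟩)

section Maximal

variable (hCN : Cfsg.IsCNGroup G) {H : Subgroup G} (hH : Group.IsNilpotent H)
  (hmax : ∀ L : Subgroup G, Group.IsNilpotent L → H ≤ L → L = H)

include hCN hmax in
omit [Finite G] in
/-- A maximal nilpotent subgroup is the centraliser of each of its central elements. -/
theorem centralizer_eq_of_central {z : G} (hz : z ≠ 1) (h : H ≤ centralizer ({z} : Set G)) :
    centralizer ({z} : Set G) = H :=
  hmax _ (hCN z hz) h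

include hCN hH hmax in
/-- A maximal nilpotent subgroup contains every Sylow subgroup that it meets nontrivially in
a full Sylow subgroup of itself. -/
theorem not_dvd_index {p : ℕ} (hp : p.Prime) (hd : p ∣ Nat.card H) : ¬ p ∣ H.index := by
  have : Fact p.Prime := ⟨hp⟩
  obtain ⟨z, hzH, hzo, hzc⟩ := exists_central hH hp hd
  have hz1 : z ≠ 1 := fun e => hp.ne_one (by rw [← hzo, e, orderOf_one])
  obtain ⟨P⟩ : Nonempty (Sylow p H) := inferInstance
  have hPn : (P : Subgroup H).Normal := inferInstance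
  obtain ⟨S, hPS⟩ := (P.2.map H.subtype).exists_le_sylow
  have hmemP : ∀ c ∈ H, (∃ k : ℕ, orderOf c = p ^ k) → c ∈ (S : Subgroup G) := by
    intro c hc ⟨k, hk⟩
    have hpc : IsPGroup p (zpowers (⟨c, hc⟩ : H)) :=
      IsPGroup.of_card (n := k) (by rw [Nat.card_zpowers, Subgroup.orderOf_mk, hk])
    obtain ⟨T, hT⟩ := hpc.exists_le_sylow
    have : Unique (Sylow p H) := Sylow.unique_of_normal P hPn
    rw [Subsingleton.elim T P] at hT
    exact hPS ⟨_, hT (mem_zpowers _), rfl⟩
  have hzS : z ∈ (S : Subgroup G) := hmemP z hzH ⟨1, by rw [hzo, pow_one]⟩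
  have hSnil : Group.IsNilpotent (S : Subgroup G) := S.2.isNilpotent
  have hdS : p ∣ Nat.card (S : Subgroup G) :=
    S.dvd_card_of_dvd_card (hd.trans (card_subgroup_dvd_card H))
  obtain ⟨w, hwS, hwo, hwc⟩ := exists_central hSnil hp hdS
  have hw1 : w ≠ 1 := fun e => hp.ne_one (by rw [← hwo, e, orderOf_one])
  have hwH : w ∈ H := by
    rw [← centralizer_eq_of_central hCN hmax hz1 hzc]
    exact mem_cent_iff.2 (mem_cent_iff.1 (hwc hzS)).symm
  have hwC : centralizer ({w} : Set G) = H := by
    refine centralizer_eq_of_central hCN hmax hw1 (le_of_forall_prime_pow fun q hq c hc hk => ?_)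
    rcases eq_or_ne q p with rfl | hne
    · exact hwc (hmemP c hc hk)
    · exact mem_cent_iff.2 (commute_of_coprime hH hc hwH
        (coprime_of_prime_pow hq hp hne hk ⟨1, by rw [hwo, pow_one]⟩))
  have hSH : (S : Subgroup G) ≤ H := hwc.trans hwC.le
  exact fun h => S.not_dvd_index (h.trans (index_dvd_of_le hSH))

include hCN hH hmax in
theorem coprime_card_index : (Nat.card H).Coprime H.index :=
  Nat.coprime_of_dvd fun _ hp hd => not_dvd_index hCN hH hmax hp hd

include hCN hH hmax in
/-- Elements of prime order `r` of a maximal nilpotent subgroup whose order has a second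
prime divisor have their centraliser inside. -/
theorem centralizer_le_of_two_primes {x : G} (hx : x ∈ H) {r q : ℕ} (hr : r.Prime)
    (hq : q.Prime) (hqr : q ≠ r) (hxo : orderOf x = r) (hqd : q ∣ Nat.card H) :
    centralizer ({x} : Set G) ≤ H := by
  have hrd : r ∣ Nat.card H := by
    rw [← hxo, ← Subgroup.orderOf_mk x hx]; exact orderOf_dvd_natCard _
  obtain ⟨y, hyH, hyo, hyc⟩ := exists_central hH hq hqd
  obtain ⟨z, hzH, hzo, hzc⟩ := exists_central hH hr hrd
  have hy1 : y ≠ 1 := fun e => hq.ne_one (by rw [← hyo, e, orderOf_one])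
  have hz1 : z ≠ 1 := fun e => hr.ne_one (by rw [← hzo, e, orderOf_one])
  have hx1 : x ≠ 1 := fun e => hr.ne_one (by rw [← hxo, e, orderOf_one])
  have hyx : y ∈ centralizer ({x} : Set G) := mem_cent_iff.2 (mem_cent_iff.1 (hyc hx)).symm
  have hzx : z ∈ centralizer ({x} : Set G) := mem_cent_iff.2 (mem_cent_iff.1 (hzc hx)).symm
  refine le_of_forall_prime_pow fun s hs c hc hk => ?_
  rcases eq_or_ne s r with rfl | hne
  · rw [← centralizer_eq_of_central hCN hmax hy1 hyc]
    exact mem_cent_iff.2 (commute_of_coprime (hCN x hx1) hc hyx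
      (coprime_of_prime_pow hs hq hqr.symm hk ⟨1, by rw [hyo, pow_one]⟩))
  · rw [← centralizer_eq_of_central hCN hmax hz1 hzc]
    exact mem_cent_iff.2 (commute_of_coprime (hCN x hx1) hc hzx
      (coprime_of_prime_pow hs hr hne hk ⟨1, by rw [hzo, pow_one]⟩))

/-- A subgroup of order greater than one which is not a prime power has a second prime. -/
theorem exists_other_prime {L : Subgroup G} (hnp : ¬ IsPrimePow (Nat.card L))
    (h1 : Nat.card L ≠ 1) (r : ℕ) : ∃ q : ℕ, q.Prime ∧ q ≠ r ∧ q ∣ Nat.card L := by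
  by_contra! hall
  obtain ⟨q, hq, hqd⟩ := Nat.exists_prime_and_dvd h1
  have hqr : q = r := by by_contra hne; exact hall q hq hne hqd
  subst hqr
  apply hnp
  have : ∀ s : ℕ, s.Prime → s ∣ Nat.card L → s = q := fun s hs hsd => by
    by_contra hne; exact hall s hs hne hsd
  exact isPrimePow_iff_unique_prime_dvd.2 ⟨q, ⟨hq, hqd⟩, fun s hs => this s hs.1 hs.2⟩

include hCN hH hmax in
/-- Centralisers of nontrivial elements lie inside, when the order is not a prime power. -/
theorem centralizer_le_of_not_primePow (hnp : ¬ IsPrimePow (Nat.card H)) {x : G} (hx : x ∈ H)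
    (hx1 : x ≠ 1) : centralizer ({x} : Set G) ≤ H := by
  have h1 : Nat.card H ≠ 1 := fun e => hx1 (by
    rw [Subgroup.card_eq_one.mp e] at hx; exact Subgroup.mem_bot.mp hx)
  obtain ⟨n, hn, -⟩ := exists_prime_order_pow hx1
  obtain ⟨q, hq, hqr, hqd⟩ := exists_other_prime hnp h1 (orderOf (x ^ n))
  exact (cent_le_pow x n).trans
    (centralizer_le_of_two_primes hCN hH hmax (pow_mem hx n) hn hq hqr rfl hqd)

include hCN hH hmax in
/-- For a maximal nilpotent TI subgroup all centralisers of its nontrivial elements lie inside. -/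
theorem centralizer_le_of_ti
    (hTI : ∀ g : G, H.map (MulAut.conj g).toMonoidHom ≠ H → H ⊓ H.map (MulAut.conj g).toMonoidHom = ⊥)
    {x : G} (hx : x ∈ H) (hx1 : x ≠ 1) : centralizer ({x} : Set G) ≤ H := by
  by_cases hnp : IsPrimePow (Nat.card H)
  swap
  · exact centralizer_le_of_not_primePow hCN hH hmax hnp hx hx1
  obtain ⟨p, k, hp, hk, hpk⟩ := hnp
  have hp' : p.Prime := Nat.prime_iff.mpr hp
  have : Fact p.Prime := ⟨hp'⟩
  have hHp : IsPGroup p H := IsPGroup.of_card hpk.symm
  have hnorm : centralizer ({x} : Set G) ≤ normalizer (H : Set G) := by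
    intro c hc
    have heq : H.map (MulAut.conj c).toMonoidHom = H := by
      by_contra hne
      have hmem : x ∈ H ⊓ H.map (MulAut.conj c).toMonoidHom := by
        refine mem_inf.2 ⟨hx, ⟨x, hx, ?_⟩⟩
        show c * x * c⁻¹ = x
        rw [mem_cent_iff.1 hc, mul_inv_cancel_right]
      rw [hTI c hne, Subgroup.mem_bot] at hmem
      exact hx1 hmem
    rw [mem_normalizer_iff]
    refine fun h => ⟨fun hh => ?_, fun hh => ?_⟩
    · rw [← heq]; exact ⟨h, hh, rfl⟩
    · rw [← heq] at hh
      obtain ⟨h', hh', he⟩ := hh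
      have : h' = h := (MulAut.conj c).injective he
      exact this ▸ hh'
  obtain ⟨z, hzH, hzo, hzc⟩ := exists_central hH hp' (hpk ▸ dvd_pow_self p hk.ne')
  have hz1 : z ≠ 1 := fun e => hp'.ne_one (by rw [← hzo, e, orderOf_one])
  refine le_of_forall_prime_pow fun q hq c hc hkc => ?_
  rcases eq_or_ne q p with rfl | hne
  · have hcp : IsPGroup q (zpowers c) := by
      obtain ⟨j, hj⟩ := hkc
      exact IsPGroup.of_card (n := j) (by rw [Nat.card_zpowers, hj])
    have hsup : IsPGroup q ↥(H ⊔ zpowers c) :=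
      IsPGroup.to_sup_of_normal_left' hHp hcp (zpowers_le.2 (hnorm hc))
    rw [← hmax _ hsup.isNilpotent le_sup_left]
    exact mem_sup_right (mem_zpowers c)
  · rw [← centralizer_eq_of_central hCN hmax hz1 hzc]
    have hQ : (Nat.card (zpowers c)).Coprime p := by
      obtain ⟨j, hj⟩ := hkc
      rw [Nat.card_zpowers, hj]
      exact ((Nat.coprime_primes hq hp').2 hne).pow_left j
    have hcen := Coprime.pxq_lemma (P := zpowers x) (Q := zpowers c) (V := H)
      (hHp.to_le (zpowers_le.2 hx)) hQ hHp (zpowers_le.2 (le_normalizer hx))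
      (zpowers_le.2 (hnorm hc))
      (zpowers_le.2 (by
        rw [mem_centralizer_iff]
        intro d hd
        obtain ⟨i, rfl⟩ := mem_zpowers_iff.1 hd
        exact ((show Commute c x from mem_cent_iff.1 hc).zpow_left i).eq))
      (zpowers_le.2 (by
        rw [mem_centralizer_iff]
        intro v hv
        obtain ⟨hvH, hvx⟩ := mem_inf.1 (hv : v ∈ H ⊓ centralizer (zpowers x : Set G))
        have hvC : v ∈ centralizer ({x} : Set G) :=
          mem_cent_iff.2 ((mem_centralizer_iff.1 hvx x (mem_zpowers x)).symm)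
        refine commute_of_coprime (hCN x hx1) hvC hc (coprime_of_prime_pow hp' hq hne.symm ?_ hkc)
        obtain ⟨j, hj⟩ := IsPGroup.iff_orderOf.1 hHp ⟨v, hvH⟩
        exact ⟨j, by rw [← hj, Subgroup.orderOf_mk]⟩))
    exact mem_cent_iff.2 (mem_centralizer_iff.1 (hcen (mem_zpowers c)) z hzH).symm

include hCN hH hmax in
/-- A maximal nilpotent subgroup whose order is not a prime power is a TI set. -/
theorem ti_of_not_primePow (hnp : ¬ IsPrimePow (Nat.card H)) (h1 : Nat.card H ≠ 1) (g : G)
    (hg : H.map (MulAut.conj g).toMonoidHom ≠ H) : H ⊓ H.map (MulAut.conj g).toMonoidHom = ⊥ := by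
  set K := H.map (MulAut.conj g).toMonoidHom with hKdef
  let e := equivMapOfInjective H (MulAut.conj g).toMonoidHom (MulAut.conj g).injective
  have hcard : Nat.card K = Nat.card H := (Nat.card_congr e.toEquiv).symm
  have hK : Group.IsNilpotent K := Group.nilpotent_of_surjective e.toMonoidHom e.surjective
  have hKmax : ∀ L : Subgroup G, Group.IsNilpotent L → K ≤ L → L = K := by
    intro L hL hKL
    let e' := equivMapOfInjective L (MulAut.conj g⁻¹).toMonoidHom (MulAut.conj g⁻¹).injective
    have hb : ∀ h : G, (MulAut.conj g⁻¹).toMonoidHom ((MulAut.conj g).toMonoidHom h) = h := fun h => by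
      simp [mul_assoc]
    have := hmax _ (Group.nilpotent_of_surjective e'.toMonoidHom e'.surjective)
      (fun h hh => ⟨_, hKL ⟨h, hh, rfl⟩, hb h⟩)
    refine le_antisymm (fun l hl => ?_) hKL
    refine ⟨(MulAut.conj g⁻¹).toMonoidHom l, this ▸ mem_map_of_mem _ hl, ?_⟩
    simp [mul_assoc]
  by_contra hne
  obtain ⟨x₀, hx₀, hx₀1⟩ := (Subgroup.bot_or_exists_ne_one _).resolve_left hne
  obtain ⟨n, hn, -⟩ := exists_prime_order_pow hx₀1
  obtain ⟨hxH, hxK⟩ := mem_inf.1 (pow_mem hx₀ n)
  obtain ⟨q, hq, hqr, hqd⟩ := exists_other_prime hnp h1 (orderOf (x₀ ^ n))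
  obtain ⟨y, hyH, hyo, hyc⟩ := exists_central hH hq hqd
  have hy1 : y ≠ 1 := fun e => hq.ne_one (by rw [← hyo, e, orderOf_one])
  have hyK : y ∈ K := centralizer_le_of_two_primes hCN hK hKmax hxK hn hq hqr rfl (hcard ▸ hqd)
    (mem_cent_iff.2 (mem_cent_iff.1 (hyc hxH)).symm)
  have hCy : centralizer ({y} : Set G) ≤ K :=
    centralizer_le_of_not_primePow hCN hK hKmax (hcard ▸ hnp) hyK hy1
  exact hg (Subgroup.eq_of_le_of_card_ge (hyc.trans hCy) hcard.le).symm

end Maximal

end Cfsg.Agent.OddPre.CN
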