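import Cfsg.Agent.OddPre.CNFrob

/-!
The structure of a fixed-point-free solvable subgroup of a CN-group.
-/

set_option autoImplicit false

namespace Cfsg.Agent.OddPre.CN

open Subgroup

variable {G : Type*} [Group G] [Finite G] {K E : Subgroup G}

/-- Nilpotent fixed-point-free subgroups are cyclic or cyclic odd times generalised quaternion. -/
theorem structure_of_nilpotent (hEK : E ≤ normalizer (K : Set G)) (hK : K ≠ ⊥)
    (hfpf : ∀ h ∈ E, h ≠ 1 → K ⊓ centralizer {h} = ⊥) (hE : Group.IsNilpotent E) :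
    IsCyclic E ∨ ∃ C Q : Subgroup G, C ⊔ Q = E ∧ (∀ a ∈ C, ∀ b ∈ Q, a * b = b * a) ∧ IsCyclic C ∧
      Odd (Nat.card C) ∧ ∃ n : ℕ, Nonempty (↥Q ≃* QuaternionGroup (2 ^ n)) := by
  have : Fact (Nat.Prime 2) := ⟨Nat.prime_two⟩
  obtain ⟨P⟩ : Nonempty (Sylow 2 E) := inferInstance
  rcases FrobeniusCompl.sylow_cyclic_or_quaternion hEK hK hfpf P with hc | ⟨-, n, ⟨e⟩⟩
  · left
    have hu : Unique (Sylow 2 E) := Sylow.unique_of_normal P inferInstance
    have : IsZGroup E := ⟨fun p hp S => by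
      have : Fact p.Prime := ⟨hp⟩
      rcases FrobeniusCompl.sylow_cyclic_or_quaternion hEK hK hfpf S with h | ⟨h2, -⟩
      · exact h
      · subst h2
        rwa [show S = P from (Unique.eq_default S).trans (Unique.eq_default P).symm]⟩
    infer_instance
  right
  obtain ⟨C', hC'⟩ := exists_right_complement'_of_coprime P.card_coprime_index
  have hCcard : Nat.card C' = (P : Subgroup E).index := hC'.symm.index_eq_card.symm
  set C := C'.map E.subtype with hCdef
  have hCodd : Odd (Nat.card C) := by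
    rw [hCdef, card_map_of_injective E.subtype_injective, hCcard, ← Nat.not_even_iff_odd]
    exact fun h => P.not_dvd_index h.two_dvd
  have hCE : C ≤ E := map_subtype_le _
  have := isZGroup_of_odd (hCE.trans hEK) hK (fpf_of_le hCE hfpf) hCodd
  have : Group.IsNilpotent C := SolvStruct.isNilpotent_of_le hCE hE
  refine ⟨C, (P : Subgroup E).map E.subtype, ?_, ?_, inferInstance, hCodd, n,
    ⟨(equivMapOfInjective _ _ E.subtype_injective).symm.trans e⟩⟩
  · rw [hCdef, ← Subgroup.map_sup, hC'.symm.sup_eq_top, ← MonoidHom.range_eq_map, range_subtype]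
  · intro a ha b hb
    refine commute_of_coprime hE (hCE ha) (map_subtype_le _ hb) ?_
    obtain ⟨k, hk⟩ := IsPGroup.iff_orderOf.1 (P.2.map E.subtype) ⟨b, hb⟩
    rw [Subgroup.orderOf_mk] at hk
    rw [hk]
    refine (Nat.Coprime.coprime_dvd_left (Subgroup.orderOf_mk a ha ▸ orderOf_dvd_natCard (⟨a, ha⟩ : C)) ?_)
    exact (Nat.coprime_two_right.2 hCodd).pow_right k

/-- Fixed-point-free solvable subgroups of a CN-group are cyclic or cyclic odd times generalised
quaternion. -/
theorem complement_structure (hCN : Cfsg.IsCNGroup G) [Group.IsSolvable E]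
    (hEK : E ≤ normalizer (K : Set G)) (hK : K ≠ ⊥)
    (hfpf : ∀ h ∈ E, h ≠ 1 → K ⊓ centralizer {h} = ⊥) :
    IsCyclic E ∨ ∃ C Q : Subgroup G, C ⊔ Q = E ∧ (∀ a ∈ C, ∀ b ∈ Q, a * b = b * a) ∧ IsCyclic C ∧
      Odd (Nat.card C) ∧ ∃ n : ℕ, Nonempty (↥Q ≃* QuaternionGroup (2 ^ n)) := by
  rcases Nat.even_or_odd (Nat.card E) with hev | hodd
  · have : Fact (Nat.Prime 2) := ⟨Nat.prime_two⟩
    obtain ⟨s, hs⟩ := exists_prime_orderOf_dvd_card' (G := E) 2 hev.two_dvd
    have hso : orderOf (s : G) = 2 := by rw [Subgroup.orderOf_coe, hs]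
    have hs1 : (s : G) ≠ 1 := fun e => by rw [e, orderOf_one] at hso; omega
    refine structure_of_nilpotent hEK hK hfpf (SolvStruct.isNilpotent_of_le ?_ (hCN _ hs1))
    intro c hc
    have h := involution_unique hEK hK hfpf s.2 (mul_mem (mul_mem hc s.2) (inv_mem hc))
      hso (by rw [← hso]; exact orderOf_injective (MulAut.conj c).toMonoidHom (MulAut.conj c).injective s)
    refine mem_cent_iff.2 ?_
    conv_rhs => rw [h]
    group
  left
  rcases eq_or_ne E ⊥ with rfl | hE1
  · infer_instance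
  have : Nontrivial E := (Subgroup.nontrivial_iff_ne_bot E).2 hE1
  set F := Cfsg.fittingSubgroup E with hF
  set A := F.map E.subtype with hA
  have hAE : A ≤ E := map_subtype_le _
  have hFne : F ≠ ⊥ := Cores.fittingSubgroup_ne_bot
  have hAne : A ≠ ⊥ := by rwa [hA, Ne, map_eq_bot_iff_of_injective _ E.subtype_injective]
  have hAnil : Group.IsNilpotent A := by
    have := Cores.fittingSubgroup_isNilpotent (G := E)
    exact Group.nilpotent_of_surjective (equivMapOfInjective F _ E.subtype_injective).toMonoidHom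
      (equivMapOfInjective F _ E.subtype_injective).surjective
  have hAodd : Odd (Nat.card A) := hodd.of_dvd_nat (card_dvd_of_le hAE)
  have := isZGroup_of_odd (hAE.trans hEK) hK (fpf_of_le hAE hfpf) hAodd
  have hAc : IsCyclic A := inferInstance
  have hEA : E ≤ normalizer (A : Set G) := by
    have key : ∀ c ∈ E, ∀ a ∈ A, c * a * c⁻¹ ∈ A := by
      rintro c hc _ ⟨a, ha, rfl⟩
      exact ⟨⟨c, hc⟩ * a * ⟨c, hc⟩⁻¹, (inferInstance : F.Normal).conj_mem a ha _, rfl⟩
    intro c hc
    rw [mem_normalizer_iff]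
    refine fun u => ⟨key c hc u, fun h => ?_⟩
    have := key c⁻¹ (inv_mem hc) _ h
    simpa [mul_assoc] using this
  have hle : E ≤ A := le_of_forall_prime_pow fun q hq b hb hk => by
    have hsup : A ⊔ zpowers b ≤ E := sup_le hAE (zpowers_le.2 hb)
    refine mem_of_normalizes_cyclic hCN hAne hAc hAodd hq hk (hEA hb) (hsup.trans hEK) hK
      (fpf_of_le hsup hfpf) fun c hc hcomm => ?_
    have hcE : c ∈ E := zpowers_le.2 hb hc
    refine ⟨⟨c, hcE⟩, Cores.centralizer_fittingSubgroup_le (G := E) ?_, rfl⟩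
    rw [mem_centralizer_iff]
    exact fun a ha => Subtype.ext (hcomm a ⟨a, ha, rfl⟩)
  rwa [le_antisymm hAE hle] at hAc

end Cfsg.Agent.OddPre.CN
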