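import Cfsg.Prelude.Def_OddOrderLocal
import Cfsg.Agent.OddPre.CNComplement
import Cfsg.Agent.Cores.Basic
import Cfsg.Agent.OddPre.Rank2Tower
import Cfsg.Agent.Coprime.Conj
import Cfsg.Agent.Modules.Fixed

/-!
The trichotomy for solvable CN-groups.
-/

set_option autoImplicit false

namespace Cfsg.Agent.OddPre.CN

open Subgroup
open scoped Pointwise

variable {G : Type*} [Group G] [Finite G] [Group.IsSolvable G]

/-- If the Fitting subgroup is a `p`-group it contains every `p'`-element commuting with one of its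
nontrivial elements. -/
theorem mem_fitting_of_commute (hCN : Cfsg.IsCNGroup G) {p : ℕ} [Fact p.Prime]
    (hFp : IsPGroup p (Cfsg.fittingSubgroup G)) {x c : G} (hx : x ∈ Cfsg.fittingSubgroup G)
    (hx1 : x ≠ 1) (hc : (orderOf c).Coprime p) (hxc : c * x = x * c) :
    c ∈ Cfsg.fittingSubgroup G := by
  set F := Cfsg.fittingSubgroup G with hF
  have hn : normalizer (F : Set G) = ⊤ := normalizer_eq_top_iff.2 inferInstance
  refine Cores.centralizer_fittingSubgroup_le ?_
  refine (zpowers_le (H := centralizer (F : Set G))).1 ?_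
  refine Coprime.pxq_lemma (P := zpowers x) (hFp.to_le (zpowers_le.2 hx))
    (by rwa [Nat.card_zpowers]) hFp (le_top.trans hn.ge) (le_top.trans hn.ge) ?_ ?_
  · rw [zpowers_le, mem_centralizer_iff]
    intro d hd
    obtain ⟨i, rfl⟩ := mem_zpowers_iff.1 hd
    exact ((show Commute c x from hxc).zpow_left i).eq
  · rw [zpowers_le, mem_centralizer_iff]
    intro v hv
    obtain ⟨hvF, hvx⟩ := mem_inf.1 (hv : v ∈ F ⊓ centralizer (zpowers x : Set G))
    refine commute_of_coprime (hCN x hx1)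
      (mem_cent_iff.2 ((mem_centralizer_iff.1 hvx x (mem_zpowers x)).symm)) (mem_cent_iff.2 hxc) ?_
    obtain ⟨j, hj⟩ := IsPGroup.iff_orderOf.1 hFp ⟨v, hvF⟩
    rw [Subgroup.orderOf_mk] at hj
    rw [hj]
    exact hc.symm.pow_left j

/-- If all centralisers of nontrivial elements of the Fitting subgroup lie inside it and it is a
Hall subgroup, the group is a Frobenius group. -/
theorem frobenius_of_selfCentralized (hCN : Cfsg.IsCNGroup G) (hne : Cfsg.fittingSubgroup G ≠ ⊥)
    (hntop : Cfsg.fittingSubgroup G ≠ ⊤)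
    (hcop : (Nat.card (Cfsg.fittingSubgroup G)).Coprime (Cfsg.fittingSubgroup G).index)
    (hC : ∀ x ∈ Cfsg.fittingSubgroup G, x ≠ 1 →
      centralizer ({x} : Set G) ≤ Cfsg.fittingSubgroup G) :
    ∃ K E : Subgroup G, K.Normal ∧ Subgroup.IsComplement' K E ∧ Cfsg.IsFrobeniusComplement E ∧
      (IsCyclic E ∨ ∃ C Q : Subgroup G, C ⊔ Q = E ∧ (∀ a ∈ C, ∀ b ∈ Q, a * b = b * a) ∧ IsCyclic C ∧
        Odd (Nat.card C) ∧ ∃ n : ℕ, Nonempty (↥Q ≃* QuaternionGroup (2 ^ n))) := by
  set F := Cfsg.fittingSubgroup G with hF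
  obtain ⟨E, hE⟩ := exists_right_complement'_of_coprime hcop
  have hEne : E ≠ ⊥ := by
    rintro rfl
    exact hntop (isComplement'_bot_right.1 hE)
  have hfpf : ∀ h ∈ E, h ≠ 1 → F ⊓ centralizer {h} = ⊥ := by
    intro h hh h1
    rw [eq_bot_iff]
    intro x hx
    obtain ⟨hxF, hxh⟩ := mem_inf.1 hx
    by_contra hx1
    exact h1 (Subgroup.mem_bot.1 (hE.disjoint.eq_bot ▸
      mem_inf.2 ⟨hC x hxF (fun e => hx1 (Subgroup.mem_bot.2 e))
        (mem_cent_iff.2 (mem_cent_iff.1 hxh).symm), hh⟩))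
  refine ⟨F, E, inferInstance, hE, Frobenius.isFrobeniusComplement_of_fpf hE hne hEne hfpf, ?_⟩
  exact complement_structure hCN (le_top.trans (normalizer_eq_top_iff.2 inferInstance).ge) hne hfpf

/-- The three step case. -/
theorem threeStep (hCN : Cfsg.IsCNGroup G) [Nontrivial G] {p : ℕ} [Fact p.Prime]
    (hFit : Cfsg.fittingSubgroup G = Cfsg.pCore p G)
    (hdvd : p ∣ (Cfsg.pCore p G).index) : Cfsg.IsThreeStepGroup p G := by
  have hp : p.Prime := Fact.out
  set F := Cfsg.pCore p G with hFdef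
  have hFne : F ≠ ⊥ := hFit ▸ Cores.fittingSubgroup_ne_bot
  have hFp : IsPGroup p F := Cores.pCore_isPGroup
  obtain ⟨i, hi⟩ := IsPGroup.iff_card.1 hFp
  have hfix : ∀ x ∈ F, x ≠ 1 → ∀ c : G, (orderOf c).Coprime p → c * x = x * c → c ∈ F :=
    fun x hx hx1 c hc hxc => hFit ▸ mem_fitting_of_commute hCN (hFit ▸ hFp) (hFit ▸ hx) hx1 hc hxc
  set f := QuotientGroup.mk' F with hf
  set Ab := Cfsg.fittingSubgroup (G ⧸ F) with hAb
  have hAbp : ¬ p ∣ Nat.card Ab := by
    intro h
    obtain ⟨z, hz⟩ := exists_prime_orderOf_dvd_card' p h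
    have hmem := Rank2.mem_pCore_of_mem_fitting (q := p) z.2 ⟨1, by rw [Subgroup.orderOf_coe, hz, pow_one]⟩
    replace hmem : (z : G ⧸ F) ∈ (⊥ : Subgroup (G ⧸ F)) :=
      (Cores.pCore_quotient_pCore_eq_bot (p := p) (G := G)).le hmem
    rw [Subgroup.mem_bot] at hmem
    rw [show z = 1 from Subtype.ext hmem, orderOf_one] at hz
    exact hp.ne_one hz.symm
  have hpos : Nontrivial (G ⧸ F) := by
    refine Finite.one_lt_card_iff_nontrivial.1 ?_
    show 1 < F.index
    exact lt_of_lt_of_le hp.one_lt (Nat.le_of_dvd (Nat.pos_of_ne_zero index_ne_zero_of_finite) hdvd)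
  have hAbne : Ab ≠ ⊥ := Cores.fittingSubgroup_ne_bot
  -- the preimage `M` and the complement `A`
  set M := Ab.comap f with hM
  have hMn : M.Normal := Subgroup.Normal.comap inferInstance f
  have hFM : F ≤ M := fun v hv => by
    show f v ∈ Ab
    rw [show f v = 1 from (QuotientGroup.eq_one_iff v).2 hv]
    exact one_mem _
  have hMf : M.map f = Ab := map_comap_eq_self_of_surjective (QuotientGroup.mk'_surjective F) Ab
  have hrel : F.relIndex M = Nat.card Ab := by
    conv_lhs => rw [← QuotientGroup.ker_mk' F]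
    rw [relIndex_ker, ← hf, hMf]
  have hcopA : (Nat.card F).Coprime (Nat.card Ab) := by
    rw [hi]
    exact (hp.coprime_iff_not_dvd.2 hAbp).pow_left i
  obtain ⟨A', hA'⟩ := exists_right_complement'_of_coprime (N := F.subgroupOf M) (by
    rw [Nat.card_congr (subgroupOfEquivOfLe hFM).toEquiv]
    show (Nat.card F).Coprime (F.relIndex M)
    rwa [hrel])
  set A := A'.map M.subtype with hA
  have hAM : A ≤ M := map_subtype_le _
  have hAcard : Nat.card A = Nat.card Ab := by
    rw [hA, card_map_of_injective M.subtype_injective, ← hA'.symm.index_eq_card, ← hrel]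
    rfl
  have hAp : (Nat.card A).Coprime p := hAcard ▸ (hp.coprime_iff_not_dvd.2 hAbp).symm
  have hFA : F ⊓ A = ⊥ := inf_eq_bot_of_coprime (hAcard ▸ hcopA)
  have hsup : F ⊔ A = M := by
    rw [hA, ← map_subgroupOf_eq_of_le hFM, ← Subgroup.map_sup, hA'.sup_eq_top,
      ← MonoidHom.range_eq_map, range_subtype]
  have hAne : A ≠ ⊥ := fun e => hAbne (card_eq_one.1 (by rw [← hAcard, e, card_bot]))
  have hAnil : Group.IsNilpotent A := by
    have hinj : Function.Injective (f.subgroupMap A) := by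
      rw [injective_iff_map_eq_one]
      intro a ha
      have h1 : f a = 1 := congrArg Subtype.val ha
      exact Subtype.ext (Subgroup.mem_bot.1 (hFA ▸
        mem_inf.2 ⟨(QuotientGroup.eq_one_iff _).1 h1, a.2⟩))
    have : Group.IsNilpotent Ab := Cores.fittingSubgroup_isNilpotent
    have : Group.IsNilpotent (A.map f) :=
      SolvStruct.isNilpotent_of_le ((map_mono hAM).trans hMf.le) ‹Group.IsNilpotent Ab›
    let e := MulEquiv.ofBijective (f.subgroupMap A) ⟨hinj, f.subgroupMap_surjective A⟩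
    exact Group.nilpotent_of_surjective e.symm.toMonoidHom e.symm.surjective
  have hFn : normalizer (F : Set G) = ⊤ := normalizer_eq_top_iff.2 inferInstance
  have hordA : ∀ a ∈ A, (orderOf a).Coprime p := fun a ha =>
    hAp.coprime_dvd_left (Subgroup.orderOf_mk a ha ▸ orderOf_dvd_natCard _)
  have hAfpf : ∀ a ∈ A, a ≠ 1 → F ⊓ centralizer {a} = ⊥ := by
    intro a ha ha1
    rw [eq_bot_iff]
    intro x hx
    obtain ⟨hxF, hxa⟩ := mem_inf.1 hx
    by_contra hx1
    exact ha1 (Subgroup.mem_bot.1 (hFA ▸ mem_inf.2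
      ⟨hfix x hxF (fun e => hx1 (Subgroup.mem_bot.2 e)) a (hordA a ha) (mem_cent_iff.1 hxa).symm, ha⟩))
  -- the normaliser of `A`
  set N := normalizer (A : Set G) with hN
  have hAN : A ≤ N := le_normalizer
  have hcommF : ∀ n ∈ N, ∀ a ∈ A, n * a * n⁻¹ * a⁻¹ ∈ F → n * a = a * n := by
    intro n hn a ha h
    have h2 : n * a * n⁻¹ * a⁻¹ ∈ A := mul_mem ((mem_normalizer_iff.1 hn a).1 ha) (inv_mem ha)
    have h3 := hFA ▸ mem_inf.2 ⟨h, h2⟩
    rw [Subgroup.mem_bot, mul_inv_eq_one, mul_inv_eq_iff_eq_mul] at h3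
    exact h3
  have hFN : ∀ v ∈ F, v ∈ N → v = 1 := by
    intro v hv hvN
    obtain ⟨a, ha, ha1⟩ := (Subgroup.bot_or_exists_ne_one A).resolve_left hAne
    have h := hcommF v hvN a ha (by
      have := mul_mem hv ((inferInstance : F.Normal).conj_mem _ (inv_mem hv) a)
      simpa [mul_assoc] using this)
    exact Subgroup.mem_bot.1 (hAfpf a ha ha1 ▸ mem_inf.2 ⟨hv, mem_cent_iff.2 h⟩)
  have hdec : ∀ g : G, ∃ v ∈ F, ∃ n ∈ N, g = v * n := by
    intro g
    have hle : MulAut.conj g • A ≤ M := by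
      rintro _ ⟨a, ha, rfl⟩
      exact hMn.conj_mem a (hAM ha) g
    have hcg : Nat.card ↥(MulAut.conj g • A : Subgroup G) = Nat.card A :=
      card_map_of_injective (MulAut.conj g).injective
    have hsup' : MulAut.conj g • A ⊔ F = A ⊔ F := by
      refine Subgroup.eq_of_le_of_card_ge (sup_le (hle.trans (by rw [← hsup, sup_comm])) le_sup_right) ?_
      rw [Coprime.card_sup_of_coprime (le_top.trans hFn.ge) (hAcard ▸ hcopA.symm),
        Coprime.card_sup_of_coprime (le_top.trans hFn.ge) (by rw [hcg, hAcard]; exact hcopA.symm), hcg]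
    obtain ⟨k, hk, hkeq⟩ := Coprime.complement_conj (le_top.trans hFn.ge) (hAcard ▸ hcopA.symm)
      (by rw [hcg, hAcard]; exact hcopA.symm) hsup' (Or.inr inferInstance)
    refine ⟨k, hk, k⁻¹ * g, ?_, by group⟩
    rw [hN, mem_normalizer_iff]
    intro a
    have hh : MulAut.conj (k⁻¹ * g) • A = A := by
      rw [map_mul, mul_smul, hkeq, ← mul_smul, ← map_mul, inv_mul_cancel, map_one, one_smul]
    constructor
    · intro ha
      rw [← hh]
      exact ⟨a, ha, rfl⟩
    · intro ha
      rw [← hh] at ha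
      obtain ⟨b, hb, hbe⟩ := ha
      exact (MulAut.conj (k⁻¹ * g)).injective hbe ▸ hb
  have hMN : ∀ n ∈ N, n ∈ M → n ∈ A := by
    intro n hn hnM
    rw [← hsup, sup_comm] at hnM
    obtain ⟨v, hv, a, ha, rfl⟩ := Coprime.exists_mul_of_mem_sup' (le_top.trans hFn.ge) hnM
    have : v ∈ N := by simpa using mul_mem hn (inv_mem (hAN ha))
    rwa [hFN v hv this, one_mul]
  have hCNA : ∀ n ∈ N, (∀ a ∈ A, a * n = n * a) → n ∈ A := by
    intro n hn h
    refine hMN n hn ?_
    show f n ∈ Ab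
    refine Cores.centralizer_fittingSubgroup_le (G := G ⧸ F) ?_
    rw [mem_centralizer_iff]
    intro y hy
    have hy' : y ∈ M.map f := hMf.ge hy
    obtain ⟨m, hm, rfl⟩ := hy'
    rw [← hsup, sup_comm] at hm
    obtain ⟨v, hv, a, ha, rfl⟩ := Coprime.exists_mul_of_mem_sup' (le_top.trans hFn.ge) hm
    rw [map_mul, show f v = 1 from (QuotientGroup.eq_one_iff v).2 hv, one_mul, ← map_mul, ← map_mul,
      h a ha]
  -- `A` has odd order and is cyclic
  have hpN : p ∣ Nat.card N := by
    refine hdvd.trans ?_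
    have hs : Function.Surjective (f.comp N.subtype) := by
      intro y
      obtain ⟨g, rfl⟩ := QuotientGroup.mk'_surjective F y
      obtain ⟨v, hv, n, hn, rfl⟩ := hdec g
      refine ⟨⟨n, hn⟩, ?_⟩
      show f n = f (v * n)
      rw [map_mul, show f v = 1 from (QuotientGroup.eq_one_iff v).2 hv, one_mul]
    exact card_dvd_of_surjective _ hs
  have hAodd : Odd (Nat.card A) := by
    rcases Nat.even_or_odd (Nat.card A) with hev | hodd
    swap
    · exact hodd
    exfalso
    have : Fact (Nat.Prime 2) := ⟨Nat.prime_two⟩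
    obtain ⟨s, hs⟩ := exists_prime_orderOf_dvd_card' (G := A) 2 hev.two_dvd
    have hso : orderOf (s : G) = 2 := by rw [Subgroup.orderOf_coe, hs]
    have hs1 : (s : G) ≠ 1 := fun e => by rw [e, orderOf_one] at hso; omega
    have hNs : N ≤ centralizer ({(s : G)} : Set G) := by
      intro n hn
      have h := involution_unique (le_top.trans hFn.ge) hFne hAfpf s.2
        ((mem_normalizer_iff.1 hn s).1 s.2) hso
        (by rw [← hso]; exact orderOf_injective (MulAut.conj n).toMonoidHom (MulAut.conj n).injective s)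
      refine mem_cent_iff.2 ?_
      conv_rhs => rw [h]
      group
    obtain ⟨z, hzN, hzo, hzc⟩ := exists_central (SolvStruct.isNilpotent_of_le hNs (hCN _ hs1)) hp hpN
    have hzA : z ∈ A := hCNA z hzN fun a ha => mem_cent_iff.1 (hzc (hAN ha))
    exact hp.ne_one (Nat.eq_one_of_dvd_coprimes (hordA z hzA) (hzo ▸ dvd_refl p) dvd_rfl)
  have := isZGroup_of_odd (le_top.trans hFn.ge) hFne hAfpf hAodd
  have hAc : IsCyclic A := inferInstance
  have habel : ∀ u ∈ A, ∀ v ∈ A, u * v = v * u := fun u hu v hv =>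
    congrArg Subtype.val ((IsCyclic.commGroup (α := A)).mul_comm ⟨u, hu⟩ ⟨v, hv⟩)
  have hqA : ∀ q : ℕ, q.Prime → q ≠ p → ∀ b ∈ N, (∃ k : ℕ, orderOf b = q ^ k) → b ∈ A := by
    intro q hq hqp b hb hk
    have hb' : zpowers b ≤ N := zpowers_le.2 hb
    have hord : ∀ h ∈ A ⊔ zpowers b, (orderOf h).Coprime p := by
      intro h hh
      refine Nat.Coprime.coprime_dvd_left (Subgroup.orderOf_dvd_natCard _ hh) ?_
      refine Nat.Coprime.coprime_dvd_left (n := p) (k := Nat.card A * Nat.card (zpowers b)) ?_ ?_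
      · rw [sup_comm, mul_comm, ← Modules.card_sup_mul_card_inf hb']
        exact dvd_mul_right _ _
      · refine hAp.mul_left ?_
        obtain ⟨k, hk⟩ := hk
        rw [Nat.card_zpowers, hk]
        exact ((Nat.coprime_primes hq hp).2 hqp).pow_left k
    refine mem_of_normalizes_cyclic hCN hAne hAc hAodd hq hk hb (le_top.trans hFn.ge) hFne ?_
      (fun c hc h => hCNA c (hb' hc) h)
    intro h hh h1
    rw [eq_bot_iff]
    intro x hx
    obtain ⟨hxF, hxh⟩ := mem_inf.1 hx
    by_contra hx1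
    have hhF := hfix x hxF (fun e => hx1 (Subgroup.mem_bot.2 e)) h (hord h hh) (mem_cent_iff.1 hxh).symm
    exact h1 (hFN h hhF (sup_le hAN hb' hh))
  have hidx : ∀ q : ℕ, q.Prime → q ∣ M.index → q = p := by
    intro q hq hd
    by_contra hne
    have : Fact q.Prime := ⟨hq⟩
    obtain ⟨S⟩ : Nonempty (Sylow q G) := inferInstance
    refine S.not_dvd_index (hd.trans (index_dvd_of_le fun g hg => ?_))
    obtain ⟨k, hk⟩ := IsPGroup.iff_orderOf.1 S.2 ⟨g, hg⟩
    rw [Subgroup.orderOf_mk] at hk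
    obtain ⟨v, hv, n, hn, rfl⟩ := hdec g
    refine mul_mem (hFM hv) (hAM (hqA q hq hne n hn ?_))
    have h1 : (v * n) ^ q ^ k = 1 := by rw [← hk, pow_orderOf_eq_one]
    have h2 : f (n ^ q ^ k) = 1 := by
      have := congrArg f h1
      rw [map_pow, map_mul, show f v = 1 from (QuotientGroup.eq_one_iff v).2 hv, one_mul, ← map_pow,
        map_one] at this
      exact this
    obtain ⟨j, -, hj⟩ := (Nat.dvd_prime_pow hq).1
      (orderOf_dvd_of_pow_eq_one (hFN _ ((QuotientGroup.eq_one_iff _).1 h2) (pow_mem hn _)))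
    exact ⟨j, hj⟩
  refine ⟨hFne, A, hAne, hAc, hAodd, hAp, hsup ▸ hMn, ?_, ?_, hAfpf, ?_⟩
  · rw [hsup]
    intro htop
    have h1 := relIndex_mul_index hFM
    rw [hrel, htop, index_top, mul_one] at h1
    exact hAbp (h1 ▸ hdvd)
  · rw [hsup]
    exact ⟨_, Nat.eq_prime_pow_of_unique_prime_dvd index_ne_zero_of_finite
      (fun hq hd => hidx _ hq hd)⟩
  · intro x hx a ha ha1 hmem
    obtain ⟨v, hv, n, hn, rfl⟩ := hdec x
    have hna : n * a = a * n := by
      refine hcommF n hn a ha ((QuotientGroup.eq_one_iff _).1 ?_)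
      have h1 : f (v * n * a * (v * n)⁻¹ * a⁻¹) = 1 := (QuotientGroup.eq_one_iff _).2 hmem
      rw [map_mul, map_mul, map_mul, map_inv, map_mul, show f v = 1 from (QuotientGroup.eq_one_iff v).2 hv,
        one_mul] at h1
      show f (n * a * n⁻¹ * a⁻¹) = 1
      rw [map_mul, map_mul, map_mul, map_inv]
      exact h1
    have hCa : N ⊓ centralizer ({a} : Set G) ≤ A := by
      refine le_of_forall_prime_pow fun q hq c hc hk => ?_
      obtain ⟨hcN, hca⟩ := mem_inf.1 hc
      rcases eq_or_ne q p with rfl | hne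
      swap
      · exact hqA q hq hne c hcN hk
      refine hCNA c hcN fun u hu => commute_of_coprime (hCN a ha1)
        (mem_cent_iff.2 (habel u hu a ha)) hca ?_
      obtain ⟨k, hk⟩ := hk
      rw [hk]
      exact (hordA u hu).pow_right k
    exact hx (mul_mem (mem_sup_left hv) (mem_sup_right (hCa (mem_inf.2 ⟨hn, mem_cent_iff.2 hna⟩))))

/-- The trichotomy. -/
theorem trichotomy (hCN : Cfsg.IsCNGroup G) :
    Group.IsNilpotent G ∨
      (∃ K E : Subgroup G, K.Normal ∧ Subgroup.IsComplement' K E ∧ Cfsg.IsFrobeniusComplement E ∧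
        (IsCyclic E ∨ ∃ C Q : Subgroup G, C ⊔ Q = E ∧ (∀ a ∈ C, ∀ b ∈ Q, a * b = b * a) ∧ IsCyclic C ∧
          Odd (Nat.card C) ∧ ∃ n : ℕ, Nonempty (↥Q ≃* QuaternionGroup (2 ^ n)))) ∨
      ∃ p : ℕ, p.Prime ∧ Cfsg.IsThreeStepGroup p G := by
  refine or_iff_not_imp_left.2 fun hnil => ?_
  have hnt : Nontrivial G := by
    by_contra hn
    rw [not_nontrivial_iff_subsingleton] at hn
    exact hnil inferInstance
  set F := Cfsg.fittingSubgroup G with hF
  have hFnil : Group.IsNilpotent F := Cores.fittingSubgroup_isNilpotent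
  have hFne : F ≠ ⊥ := Cores.fittingSubgroup_ne_bot
  have hFtop : F ≠ ⊤ := fun e => hnil (by
    rw [e] at hFnil
    exact Group.nilpotent_of_surjective (Subgroup.topEquiv (G := G)).toMonoidHom
      (Subgroup.topEquiv (G := G)).surjective)
  have hF1 : Nat.card F ≠ 1 := fun e => hFne (card_eq_one.1 e)
  by_cases hpp : IsPrimePow (Nat.card F)
  swap
  · left
    obtain ⟨H, ⟨hH, hFH⟩, hmax'⟩ :=
      (Set.toFinite {L : Subgroup G | Group.IsNilpotent L ∧ F ≤ L}).exists_maximal ⟨F, hFnil, le_rfl⟩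
    have hmax : ∀ L : Subgroup G, Group.IsNilpotent L → H ≤ L → L = H := fun L hL h =>
      le_antisymm (hmax' ⟨hL, hFH.trans h⟩ h) h
    have hH1 : Nat.card H ≠ 1 := fun e => hFne (le_bot_iff.1 (card_eq_one.1 e ▸ hFH))
    have hHnp : ¬ IsPrimePow (Nat.card H) := fun h => hpp (h.dvd (card_dvd_of_le hFH) hF1)
    have hHn : H.Normal := by
      refine ⟨fun x hx g => ?_⟩
      have heq : H.map (MulAut.conj g).toMonoidHom = H := by
        by_contra hne
        refine hFne (le_bot_iff.1 (le_trans (le_inf hFH fun v hv => ?_)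
          (ti_of_not_primePow hCN hH hmax hHnp hH1 g hne).le))
        exact ⟨g⁻¹ * v * g, hFH (by simpa using (inferInstance : F.Normal).conj_mem v hv g⁻¹),
          by simp [mul_assoc]⟩
      rw [← heq]
      exact ⟨x, hx, rfl⟩
    have hHF : H = F := le_antisymm (Cores.le_fittingSubgroup hHn hH) hFH
    refine frobenius_of_selfCentralized hCN hFne hFtop ?_ ?_
    · show (Nat.card F).Coprime F.index
      rw [← hHF]
      exact coprime_card_index hCN hH hmax
    · intro x hx hx1
      show _ ≤ F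
      rw [← hHF]
      exact centralizer_le_of_not_primePow hCN hH hmax hHnp (hHF ▸ hx) hx1
  obtain ⟨p, k, hp, hk, hpk⟩ := hpp
  have hp' : p.Prime := Nat.prime_iff.mpr hp
  have : Fact p.Prime := ⟨hp'⟩
  have hFp : IsPGroup p F := IsPGroup.of_card hpk.symm
  by_cases hd : p ∣ F.index
  · right
    have hFit : F = Cfsg.pCore p G :=
      le_antisymm (Cores.le_pCore inferInstance hFp) Cores.pCore_le_fittingSubgroup
    exact ⟨p, hp', threeStep hCN hFit (hFit ▸ hd)⟩
  left
  refine frobenius_of_selfCentralized hCN hFne hFtop ?_ ?_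
  · show (Nat.card F).Coprime F.index
    rw [← hpk]
    exact (hp'.coprime_iff_not_dvd.2 hd).pow_left k
  · intro x hx hx1
    refine le_of_forall_prime_pow fun q hq c hc hkc => ?_
    rcases eq_or_ne q p with rfl | hne
    · obtain ⟨S⟩ : Nonempty (Sylow q G) := inferInstance
      obtain ⟨j, hj⟩ := hkc
      have hle : IsPGroup q ↥(F ⊔ zpowers c) :=
        IsPGroup.to_sup_of_normal_left' hFp (IsPGroup.of_card (n := j) (by rw [Nat.card_zpowers, hj]))
          (le_top.trans (normalizer_eq_top_iff.2 inferInstance).ge)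
      obtain ⟨i, hi⟩ := IsPGroup.iff_card.1 hle
      have h1 := relIndex_dvd_index_of_normal (H := F) (K := F ⊔ zpowers c)
      have h2 : F.relIndex (F ⊔ zpowers c) ∣ q ^ i := hi ▸ relIndex_dvd_card _ _
      obtain ⟨e, -, he⟩ := (Nat.dvd_prime_pow hq).1 h2
      rcases Nat.eq_zero_or_pos e with h0 | h0
      · rw [h0, pow_zero, relIndex_eq_one] at he
        exact he (mem_sup_right (mem_zpowers c))
      · exact absurd ((he ▸ dvd_pow_self q h0.ne').trans h1) hd
    · refine mem_fitting_of_commute hCN hFp hx hx1 ?_ (mem_cent_iff.1 hc)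
      obtain ⟨j, hj⟩ := hkc
      rw [hj]
      exact ((Nat.coprime_primes hq hp').2 hne).pow_left j

end Cfsg.Agent.OddPre.CN
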