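import Cfsg.Agent.OddPre.CN
import Cfsg.Agent.Lib.FrobeniusComplement
import Cfsg.Agent.Cores.Fitting

/-!
Groups acting fixed-point-freely inside CN-groups.
-/

set_option autoImplicit false

namespace Cfsg.Agent.OddPre.CN

open Subgroup

variable {G : Type*} [Group G] [Finite G] {K E : Subgroup G}

/-- A fixed-point-free subgroup has at most one involution. -/
theorem involution_unique (hEK : E ≤ normalizer (K : Set G)) (hK : K ≠ ⊥)
    (hfpf : ∀ h ∈ E, h ≠ 1 → K ⊓ centralizer {h} = ⊥) {s t : G} (hs : s ∈ E) (ht : t ∈ E)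
    (hso : orderOf s = 2) (hto : orderOf t = 2) : s = t := by
  have inv : ∀ u ∈ E, orderOf u = 2 → ∀ y ∈ K, u * y * u⁻¹ = y⁻¹ := by
    intro u hu huo y hy
    have hu1 : u ≠ 1 := fun e => by rw [e, orderOf_one] at huo; omega
    have huu : u * u = 1 := by rw [← sq, ← huo, pow_orderOf_eq_one]
    have huinv : u⁻¹ = u := inv_eq_of_mul_eq_one_left huu
    have hcl : ∀ k ∈ K, u * k * u⁻¹ ∈ K := fun k hk => (mem_normalizer_iff.1 (hEK hu) k).1 hk
    let m : K → K := fun k => ⟨(k : G)⁻¹ * (u * k * u⁻¹), mul_mem (inv_mem k.2) (hcl k k.2)⟩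
    have hinj : Function.Injective m := by
      intro a b hab
      have e : (a : G)⁻¹ * (u * a * u⁻¹) = (b : G)⁻¹ * (u * b * u⁻¹) := congrArg Subtype.val hab
      have hc : (b : G) * (a : G)⁻¹ ∈ K ⊓ centralizer {u} := by
        refine mem_inf.2 ⟨mul_mem b.2 (inv_mem a.2), mem_cent_iff.2 ?_⟩
        calc (b : G) * (a : G)⁻¹ * u
            = (b : G) * ((a : G)⁻¹ * (u * a * u⁻¹)) * (u * (a : G)⁻¹) := by group
          _ = u * ((b : G) * (a : G)⁻¹) := by rw [e]; group
      rw [hfpf u hu hu1, Subgroup.mem_bot, mul_inv_eq_one] at hc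
      exact Subtype.ext hc.symm
    obtain ⟨k, hk⟩ := Finite.injective_iff_surjective.1 hinj ⟨y, hy⟩
    have e : (k : G)⁻¹ * (u * k * u⁻¹) = y := congrArg Subtype.val hk
    rw [← e, huinv]
    simp only [mul_inv_rev, inv_inv, huinv, mul_assoc]
    rw [huu, mul_one]
  by_contra hne
  obtain ⟨k, hk, hk1⟩ := (Subgroup.bot_or_exists_ne_one K).resolve_left hK
  have h1 : s⁻¹ * t ≠ 1 := fun e => hne (inv_mul_eq_one.1 e)
  have hk' : k ∈ K ⊓ centralizer {s⁻¹ * t} := by
    refine mem_inf.2 ⟨hk, mem_cent_iff.2 ?_⟩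
    have e1 := inv s hs hso k hk
    have e2 := inv t ht hto k hk
    have e3 : t * k = k⁻¹ * t := by rw [← e2]; group
    have e4 : s⁻¹ * k⁻¹ = k * s⁻¹ := by rw [← e1]; group
    rw [mul_assoc s⁻¹ t k, e3, ← mul_assoc s⁻¹, e4, mul_assoc]
  rw [hfpf _ (mul_mem (inv_mem hs) ht) h1, Subgroup.mem_bot] at hk'
  exact hk1 hk'

omit [Finite G] in
theorem fpf_of_le {H : Subgroup G} (hH : H ≤ E)
    (hfpf : ∀ h ∈ E, h ≠ 1 → K ⊓ centralizer {h} = ⊥) :
    ∀ h ∈ H, h ≠ 1 → K ⊓ centralizer {h} = ⊥ := fun h hh => hfpf h (hH hh)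

/-- Odd fixed-point-free subgroups have cyclic Sylow subgroups. -/
theorem isZGroup_of_odd (hEK : E ≤ normalizer (K : Set G)) (hK : K ≠ ⊥)
    (hfpf : ∀ h ∈ E, h ≠ 1 → K ⊓ centralizer {h} = ⊥) (hodd : Odd (Nat.card E)) : IsZGroup E :=
  ⟨fun p hp P => by
    have : Fact p.Prime := ⟨hp⟩
    rcases FrobeniusCompl.sylow_cyclic_or_quaternion hEK hK hfpf P with h | ⟨-, n, ⟨e⟩⟩
    · exact h
    · exfalso
      have h2 : 2 ∣ Nat.card E := by
        refine dvd_trans ?_ (P : Subgroup E).card_subgroup_dvd_card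
        rw [Nat.card_congr e.toEquiv, Nat.card_eq_fintype_card, QuaternionGroup.card]
        exact dvd_mul_of_dvd_left (by norm_num) _
      exact Nat.not_even_iff_odd.2 hodd (even_iff_two_dvd.2 h2)⟩

/-- A prime power element normalising an odd cyclic subgroup in a fixed-point-free situation lies
in it, if the latter is self-centralising with respect to that element. -/
theorem mem_of_normalizes_cyclic (hCN : Cfsg.IsCNGroup G) {A : Subgroup G} (hA : A ≠ ⊥)
    (hAc : IsCyclic A) (hAodd : Odd (Nat.card A)) {b : G} {q : ℕ} (hq : q.Prime)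
    (hb : ∃ k : ℕ, orderOf b = q ^ k) (hbA : b ∈ normalizer (A : Set G))
    (hnorm : A ⊔ zpowers b ≤ normalizer (K : Set G)) (hK : K ≠ ⊥)
    (hfpf : ∀ h ∈ A ⊔ zpowers b, h ≠ 1 → K ⊓ centralizer {h} = ⊥)
    (hself : ∀ c ∈ zpowers b, (∀ a ∈ A, a * c = c * a) → c ∈ A) : b ∈ A := by
  have : Fact q.Prime := ⟨hq⟩
  by_contra hbnot
  have hb1 : b ≠ 1 := fun e => hbnot (e ▸ one_mem A)
  have habel : ∀ u ∈ A, ∀ v ∈ A, u * v = v * u := fun u hu v hv =>
    congrArg Subtype.val ((IsCyclic.commGroup (α := A)).mul_comm ⟨u, hu⟩ ⟨v, hv⟩)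
  have hAd : ∀ a ∈ A, ∀ s : ℕ, s.Prime → orderOf a = s → Nat.card (zpowers a) = s :=
    fun a _ s _ h => by rw [Nat.card_zpowers, h]
  -- every element of prime order of `A` spans a subgroup normalised by `b`
  have hnz : ∀ a ∈ A, ∀ c ∈ zpowers b, c * a * c⁻¹ ∈ zpowers a := by
    intro a ha c hc
    have hcA : c * a * c⁻¹ ∈ A :=
      (mem_normalizer_iff.1 ((zpowers_le.2 hbA) hc) a).1 ha
    have e : zpowers (⟨c * a * c⁻¹, hcA⟩ : A) = zpowers (⟨a, ha⟩ : A) := by
      apply FrobeniusCompl.eq_of_card_eq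
      rw [Nat.card_zpowers, Nat.card_zpowers, Subgroup.orderOf_mk, Subgroup.orderOf_mk]
      exact orderOf_injective (MulAut.conj c).toMonoidHom (MulAut.conj c).injective a
    obtain ⟨j, hj⟩ := mem_zpowers_iff.1 (show (⟨c * a * c⁻¹, hcA⟩ : A) ∈ zpowers (⟨a, ha⟩ : A) from
      e ▸ mem_zpowers _)
    exact mem_zpowers_iff.2 ⟨j, by simpa using congrArg Subtype.val hj⟩
  -- elements commuting with a nontrivial element of `A` commute with its coprime part
  have hco : ∀ a ∈ A, a ≠ 1 → ∀ c ∈ zpowers b, a * c = c * a → ∀ u ∈ A,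
      (orderOf u).Coprime (orderOf c) → u * c = c * u := by
    intro a ha ha1 c hc hac u hu hcop
    exact commute_of_coprime (hCN a ha1) (mem_cent_iff.2 (habel u hu a ha))
      (mem_cent_iff.2 hac.symm) hcop
  by_cases hqA : q ∣ Nat.card A
  · obtain ⟨a₀, ha₀⟩ := exists_prime_orderOf_dvd_card' (G := A) q hqA
    have ha₀' : orderOf (a₀ : G) = q := by rw [Subgroup.orderOf_coe, ha₀]
    have ha1 : (a₀ : G) ≠ 1 := fun e => hq.ne_one (by rw [← ha₀', e, orderOf_one])
    -- the elements of `q`-power order of `A` together with `b`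
    obtain ⟨P⟩ : Nonempty (Sylow q A) := inferInstance
    set Aq := (P : Subgroup A).map A.subtype with hAq
    have hAqA : Aq ≤ A := map_subtype_le _
    have hin : ∀ u ∈ A, (∃ k : ℕ, orderOf u = q ^ k) → u ∈ Aq := by
      intro u hu ⟨k, hk⟩
      have : Unique (Sylow q A) :=
        Sylow.unique_of_normal P ⟨fun x hx g => by
          have e : g * x * g⁻¹ = x := Subtype.ext (by
            show (g : G) * x * (g : G)⁻¹ = x
            rw [habel g g.2 x x.2, mul_inv_cancel_right])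
          rwa [e]⟩
      obtain ⟨T, hT⟩ := (IsPGroup.of_card (n := k) (show Nat.card (zpowers (⟨u, hu⟩ : A)) = q ^ k by
        rw [Nat.card_zpowers, Subgroup.orderOf_mk, hk])).exists_le_sylow
      rw [Unique.eq_default T, ← Unique.eq_default P] at hT
      exact ⟨_, hT (mem_zpowers _), rfl⟩
    have hnorm' : zpowers b ≤ normalizer (Aq : Set G) := by
      have key : ∀ c ∈ zpowers b, ∀ u ∈ Aq, c * u * c⁻¹ ∈ Aq := fun c hc u hu => by
        obtain ⟨k, hk⟩ := IsPGroup.iff_orderOf.1 (P.2.map A.subtype) ⟨u, hu⟩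
        refine hin _ ((mem_normalizer_iff.1 (zpowers_le.2 hbA hc) u).1 (hAqA hu)) ⟨k, ?_⟩
        rw [← hk, Subgroup.orderOf_mk]
        exact orderOf_injective (MulAut.conj c).toMonoidHom (MulAut.conj c).injective u
      intro c hc
      rw [mem_normalizer_iff]
      refine fun u => ⟨key c hc u, fun h => ?_⟩
      have := key c⁻¹ (inv_mem hc) _ h
      simpa [mul_assoc] using this
    obtain ⟨k, hk⟩ := hb
    have hbp : IsPGroup q (zpowers b) := IsPGroup.of_card (n := k) (by rw [Nat.card_zpowers, hk])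
    have hD : IsPGroup q ↥(Aq ⊔ zpowers b) :=
      IsPGroup.to_sup_of_normal_left' (P.2.map A.subtype) hbp hnorm'
    have hDle : Aq ⊔ zpowers b ≤ A ⊔ zpowers b := sup_le_sup_right hAqA _
    have hDodd : Odd (Nat.card ↥(Aq ⊔ zpowers b)) := by
      obtain ⟨j, hj⟩ := IsPGroup.iff_card.1 hD
      rw [hj]
      exact (hAodd.of_dvd_nat hqA).pow
    have := isZGroup_of_odd (hDle.trans hnorm) hK (fpf_of_le hDle hfpf) hDodd
    have := hD.isNilpotent
    have hDc : IsCyclic ↥(Aq ⊔ zpowers b) := inferInstance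
    have hDcomm : ∀ u ∈ Aq, u * b = b * u := fun u hu =>
      congrArg Subtype.val ((IsCyclic.commGroup (α := ↥(Aq ⊔ zpowers b))).mul_comm
        ⟨u, mem_sup_left hu⟩ ⟨b, mem_sup_right (mem_zpowers b)⟩)
    refine hbnot (hself b (mem_zpowers b) fun u hu => ?_)
    have hle : A ≤ centralizer ({b} : Set G) := by
      refine le_of_forall_prime_pow fun s hs c hc hk' => mem_cent_iff.2 ?_
      rcases eq_or_ne s q with rfl | hne
      · exact hDcomm c (hin c hc hk')
      · exact hco a₀ a₀.2 ha1 b (mem_zpowers b) (hDcomm _ (hin _ a₀.2 ⟨1, by rw [ha₀', pow_one]⟩)) c hc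
          (coprime_of_prime_pow hs hq hne hk' ⟨k, hk⟩)
    exact mem_cent_iff.1 (hle hu)
  · -- an element of order `q` of `zpowers b` would centralise `A`
    obtain ⟨n, hn, hnd⟩ := exists_prime_order_pow hb1
    obtain ⟨k, hk⟩ := hb
    have hcq : orderOf (b ^ n) = q := (Nat.prime_dvd_prime_iff_eq hn hq).1
      (hn.dvd_of_dvd_pow (hk ▸ hnd))
    set c := b ^ n with hc
    have hcb : c ∈ zpowers b := npow_mem_zpowers b n
    obtain ⟨s, hs, hsd⟩ := Nat.exists_prime_and_dvd (fun e => hA (card_eq_one.1 e))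
    have : Fact s.Prime := ⟨hs⟩
    obtain ⟨a₀, ha₀⟩ := exists_prime_orderOf_dvd_card' (G := A) s hsd
    have ha₀' : orderOf (a₀ : G) = s := by rw [Subgroup.orderOf_coe, ha₀]
    have ha1 : (a₀ : G) ≠ 1 := fun e => hs.ne_one (by rw [← ha₀', e, orderOf_one])
    have hne : s ≠ q := fun e => hqA (e ▸ hsd)
    set D := zpowers (a₀ : G) ⊔ zpowers c with hD
    have hle : zpowers c ≤ normalizer (zpowers (a₀ : G) : Set G) := by
      intro d hd
      have hd' : d ∈ zpowers b := (zpowers_le.2 hcb) hd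
      rw [mem_normalizer_iff]
      intro u
      constructor
      · intro hu
        obtain ⟨i, rfl⟩ := mem_zpowers_iff.1 hu
        rw [← conj_zpow]
        exact zpow_mem (hnz _ a₀.2 d hd') i
      · intro hu
        obtain ⟨i, hi⟩ := mem_zpowers_iff.1 hu
        have : u = (d⁻¹ * a₀ * d⁻¹⁻¹) ^ i := by rw [conj_zpow, hi]; group
        rw [this]
        exact zpow_mem (hnz _ a₀.2 d⁻¹ (inv_mem hd')) i
    have hcard : Nat.card D = s * q := by
      rw [hD, sup_comm, Coprime.card_sup_of_coprime hle (by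
        rw [Nat.card_zpowers, Nat.card_zpowers, hcq, ha₀']
        exact (Nat.coprime_primes hq hs).2 hne.symm), Nat.card_zpowers, Nat.card_zpowers, hcq, ha₀',
        mul_comm]
    have hDle : D ≤ A ⊔ zpowers b :=
      sup_le_sup (zpowers_le.2 a₀.2) (zpowers_le.2 hcb)
    have hcyc := FrobeniusCompl.isCyclic_of_le hnorm hK hfpf D hDle (Or.inr ⟨s, q, hs, hq, hcard⟩)
    have hac : (a₀ : G) * c = c * a₀ :=
      congrArg Subtype.val ((IsCyclic.commGroup (α := D)).mul_comm
        ⟨a₀, mem_sup_left (mem_zpowers _)⟩ ⟨c, mem_sup_right (mem_zpowers c)⟩)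
    have hcA := hself c hcb fun u hu => hco a₀ a₀.2 ha1 c hcb hac u hu (by
      rw [hcq]
      refine (hq.coprime_iff_not_dvd.2 fun h => hqA (h.trans ?_)).symm
      exact Subgroup.orderOf_mk u hu ▸ orderOf_dvd_natCard _)
    exact hqA (hcq ▸ Subgroup.orderOf_mk c hcA ▸ orderOf_dvd_natCard _)

end Cfsg.Agent.OddPre.CN
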