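import Cfsg.Agent.H4.QuaternionSection
import Cfsg.Agent.Modules.Fixed
import Mathlib.LinearAlgebra.Matrix.GeneralLinearGroup.Card

/-!
Recognition of GL(2,3) by generators and relations.
-/

set_option autoImplicit false

namespace Cfsg.Agent.OddPre.GLTwoThree

open Subgroup

/-- Relations of GL(2,3) in the generators `i, j, t, u`. -/
structure Rels {M : Type*} [Group M] (i j t u : M) : Prop where
  hi : i ^ 4 = 1
  hj : j ^ 2 = i ^ 2
  hji : j * i = i ^ 3 * j
  ht : t ^ 3 = 1
  hti : t * i = j * t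
  htj : t * j = i * j * t
  hu : u * u = 1
  hui : u * i = j * u
  huj : u * j = i * u
  hut : u * t = t ^ 2 * j * u

theorem card_closure_le {M : Type*} [Group M] [Finite M] {i j t u : M} (h : Rels i j t u) :
    Nat.card (closure ({i, j, t, u} : Set M)) ≤ 48 := by
  set D := closure ({i, j, t} : Set M) with hD
  have hDc : Nat.card D ≤ 24 := H4.card_closure_le_of_rel h.hi h.hj h.hji h.ht h.hti h.htj
  have hi : i ∈ D := subset_closure (by simp)
  have hj : j ∈ D := subset_closure (by simp)
  have ht : t ∈ D := subset_closure (by simp)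
  have hu1 : u⁻¹ = u := inv_eq_of_mul_eq_one_left h.hu
  have key : ∀ x ∈ D, u * x * u⁻¹ ∈ D := by
    have hle : D ≤ D.comap (MulAut.conj u).toMonoidHom := by
      rw [hD, closure_le]
      rintro x hx
      show u * x * u⁻¹ ∈ D
      rcases hx with rfl | rfl | rfl
      · rw [h.hui, mul_inv_cancel_right]; exact hj
      · rw [h.huj, mul_inv_cancel_right]; exact hi
      · rw [h.hut, mul_inv_cancel_right]; exact mul_mem (pow_mem ht 2) hj
    exact fun x hx => hle hx
  have hn : zpowers u ≤ normalizer (D : Set M) := by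
    rw [zpowers_le, mem_normalizer_iff]
    refine fun x => ⟨key x, fun hx => ?_⟩
    have h2 := key _ hx
    rw [hu1] at h2
    rwa [show u * (u * x * u) * u = (u * u) * x * (u * u) by simp [mul_assoc], h.hu, one_mul,
      mul_one] at h2
  have hle : closure ({i, j, t, u} : Set M) ≤ zpowers u ⊔ D := by
    rw [closure_le]
    rintro x (rfl | rfl | rfl | rfl)
    · exact mem_sup_right hi
    · exact mem_sup_right hj
    · exact mem_sup_right ht
    · exact mem_sup_left (mem_zpowers _)
  refine (Nat.card_mono (Set.toFinite _) hle).trans ?_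
  have hpos : 0 < Nat.card ↥(zpowers u ⊓ D) := Nat.card_pos
  have hc := Modules.card_sup_mul_card_inf hn
  have hzu : Nat.card (zpowers u) ≤ 2 := by
    rw [Nat.card_zpowers]
    exact orderOf_le_of_pow_eq_one two_pos (by rw [sq, h.hu])
  calc Nat.card ↥(zpowers u ⊔ D) ≤ Nat.card ↥(zpowers u ⊔ D) * Nat.card ↥(zpowers u ⊓ D) :=
        Nat.le_mul_of_pos_right _ hpos
    _ = Nat.card (zpowers u) * Nat.card D := hc
    _ ≤ 2 * 24 := Nat.mul_le_mul hzu hDc

/-- Groups of order at least 48 generated by such quadruples are isomorphic. -/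
theorem equiv_of_rels {A B : Type*} [Group A] [Group B] [Finite A] [Finite B]
    {i j t u : A} (h : Rels i j t u) (hA : closure ({i, j, t, u} : Set A) = ⊤)
    (hAc : 48 ≤ Nat.card A) {I J T U : B} (h' : Rels I J T U)
    (hB : closure ({I, J, T, U} : Set B) = ⊤) (hBc : 48 ≤ Nat.card B) : Nonempty (A ≃* B) := by
  let M : Subgroup (A × B) := closure {(i, I), (j, J), (t, T), (u, U)}
  have hM : Nat.card M ≤ 48 := card_closure_le
    ⟨Prod.ext h.hi h'.hi, Prod.ext h.hj h'.hj, Prod.ext h.hji h'.hji, Prod.ext h.ht h'.ht,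
      Prod.ext h.hti h'.hti, Prod.ext h.htj h'.htj, Prod.ext h.hu h'.hu, Prod.ext h.hui h'.hui,
      Prod.ext h.huj h'.huj, Prod.ext h.hut h'.hut⟩
  let f : M →* A := (MonoidHom.fst A B).comp M.subtype
  let g : M →* B := (MonoidHom.snd A B).comp M.subtype
  have hf : Function.Surjective f := MonoidHom.range_eq_top.mp <| by
    rw [MonoidHom.range_comp, range_subtype, MonoidHom.map_closure, Set.image_insert_eq,
      Set.image_insert_eq, Set.image_insert_eq, Set.image_singleton]
    exact hA
  have hg : Function.Surjective g := MonoidHom.range_eq_top.mp <| by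
    rw [MonoidHom.range_comp, range_subtype, MonoidHom.map_closure, Set.image_insert_eq,
      Set.image_insert_eq, Set.image_insert_eq, Set.image_singleton]
    exact hB
  have hfb : Function.Bijective f := hf.bijective_of_nat_card_le (hM.trans hAc)
  have hgb : Function.Bijective g := hg.bijective_of_nat_card_le (hM.trans hBc)
  exact ⟨(MulEquiv.ofBijective f hfb).symm.trans (MulEquiv.ofBijective g hgb)⟩

def matI : GL (Fin 2) (ZMod 3) := ⟨!![0, 2; 1, 0], !![0, 1; 2, 0], by decide, by decide⟩
def matJ : GL (Fin 2) (ZMod 3) := ⟨!![1, 1; 1, 2], !![2, 2; 2, 1], by decide, by decide⟩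
def matT : GL (Fin 2) (ZMod 3) := ⟨!![1, 1; 0, 1], !![1, 2; 0, 1], by decide, by decide⟩
def matU : GL (Fin 2) (ZMod 3) := ⟨!![1, 0; 2, 2], !![1, 0; 2, 2], by decide, by decide⟩

theorem gl_rels : Rels matI matJ matT matU := by
  constructor <;> decide

theorem gl_card : Nat.card (GL (Fin 2) (ZMod 3)) = 48 := by
  have : Fact (Nat.Prime 3) := ⟨Nat.prime_three⟩
  rw [Matrix.card_GL_field, ZMod.card]
  simp [Fin.prod_univ_two]

theorem gl_closure : Subgroup.closure ({matI, matJ, matT, matU} : Set (GL (Fin 2) (ZMod 3))) = ⊤ := by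
  let f : Fin 4 × Fin 2 × Fin 3 × Fin 2 → GL (Fin 2) (ZMod 3) :=
    fun x => matI ^ (x.1 : ℕ) * matJ ^ (x.2.1 : ℕ) * matT ^ (x.2.2.1 : ℕ) * matU ^ (x.2.2.2 : ℕ)
  have hfi : Function.Injective f := by
    unfold Function.Injective
    decide +kernel
  have hfs : Function.Surjective f := (hfi.bijective_of_nat_card_le (by rw [gl_card]; simp)).2
  refine eq_top_iff.mpr fun x _ => ?_
  obtain ⟨⟨a, b, c, d⟩, rfl⟩ := hfs x
  refine mul_mem (mul_mem (mul_mem (pow_mem ?_ _) (pow_mem ?_ _)) (pow_mem ?_ _)) (pow_mem ?_ _) <;>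
    exact subset_closure (by simp)

/-- A group of order 48 with such generators is GL(2,3). -/
theorem nonempty_equiv {A : Type*} [Group A] [Finite A] {i j t u : A} (h : Rels i j t u)
    (hA : closure ({i, j, t, u} : Set A) = ⊤) (hAc : 48 ≤ Nat.card A) :
    Nonempty (A ≃* GL (Fin 2) (ZMod 3)) :=
  equiv_of_rels h hA hAc gl_rels gl_closure gl_card.ge

end Cfsg.Agent.OddPre.GLTwoThree
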